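import Cfsg.Agent.LThreeCo1.Ranks

/-!
# The vectors of type two fixed by an element of order three of fixed rank six (helper844)

* `odd_two` : `s` of order 3 in `Co1` with `fr s = 2 ^ 6`: the number of fixed vectors of type 2 is odd (it is 27).
-/

set_option autoImplicit false
set_option maxRecDepth 100000

namespace Cfsg.Agent.H844.TwoB.Six

open Cfsg Cfsg.Agent.SporadicA Cfsg.Agent.SporadicStructure.Co0Matrix
open Cfsg.Agent.CoOneType.CoEval
open Cfsg.Agent.MonsterU.Lam2 Cfsg.Agent.LThreeMB.Fix Cfsg.Agent.LThreeCo1.Ranks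
open Cfsg.Spor (Co1)
open Cfsg.Agent.LThreeCo1.Class (c6)
open Cfsg.Agent.LThreeMB

theorem len6 : v6.length = 6 := rfl

/-- the index -/
def J (i : Fin 6) : Fin v6.length := Fin.cast len6.symm i

/-- the combination of the six vectors -/
def cb (a b c d e f : ℤ) : List ℤ :=
  addL (mulL a (v6.get (J 0)).1) (addL (mulL b (v6.get (J 1)).1) (addL (mulL c (v6.get (J 2)).1)
    (addL (mulL d (v6.get (J 3)).1) (addL (mulL e (v6.get (J 4)).1) (mulL f (v6.get (J 5)).1)))))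

/-- the combination in the lattice -/
noncomputable def cu (a b c d e f : ℤ) : leechLattice :=
  a • el (v6.get (J 0)).1 + (b • el (v6.get (J 1)).1 + (c • el (v6.get (J 2)).1 +
    (d • el (v6.get (J 3)).1 + (e • el (v6.get (J 4)).1 + f • el (v6.get (J 5)).1))))

/-- the combination in `L2` -/
noncomputable def cv (a b c d e f : ZMod 2) : L2 :=
  a • vv v6 (J 0) + (b • vv v6 (J 1) + (c • vv v6 (J 2) + (d • vv v6 (J 3) + (e • vv v6 (J 4) + f • vv v6 (J 5)))))

theorem lat6 : latB v6 = true := by decide +kernel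
theorem fix6 : fixB Q6 v6 = true := by decide +kernel
theorem dual6 : dualB v6 = true := by decide +kernel
theorem span6 : spanB Q6 v6 = true := by decide +kernel

theorem l6 (j : Fin v6.length) : leechB (v6.get j).1 = true := (lat_spec lat6 (List.get_mem v6 j)).1

theorem cu_coe (a b c d e f : ℤ) : ((cu a b c d e f : leechLattice) : GolayPt → ℤ) = vec (cb a b c d e f) := by
  rw [cb, vec_addL, vec_addL, vec_addL, vec_addL, vec_addL, vec_mulL, vec_mulL, vec_mulL, vec_mulL, vec_mulL, vec_mulL,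
    ← el_coe (l6 (J 0)), ← el_coe (l6 (J 1)), ← el_coe (l6 (J 2)), ← el_coe (l6 (J 3)), ← el_coe (l6 (J 4)), ← el_coe (l6 (J 5))]
  rfl

theorem cl_cu (a b c d e f : ℤ) : cl (cu a b c d e f) = cv a b c d e f := by
  simp only [cu, cv, map_add, cl_zsmul]
  rfl

theorem norm_cu (a b c d e f : ℤ) : sqNorm ((cu a b c d e f : leechLattice) : GolayPt → ℤ) =
    dotL (cb a b c d e f) (cb a b c d e f) := by
  rw [cu_coe, Cfsg.Agent.Leech.Basic.sqNorm_eq_dotInt, dotInt_vec]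
  simp only [cb, length_addL, mulL, List.length_map, length_of_leechB (l6 _)]
  norm_num

/-- integer coefficients of the 27 vectors -/
def tab : List (ℤ × ℤ × ℤ × ℤ × ℤ × ℤ) := [
  (0, 0, 0, 0, 0, -1), (0, 0, 0, 0, -1, 0), (0, 0, 0, -1, 0, 0), (0, 0, -1, 0, 0, 0), (0, 0, -1, 0, 0, 1),
  (0, 0, -1, 0, 1, 0), (0, 0, -1, 1, 0, 0), (0, -1, 0, 0, 0, 0), (0, -1, 0, 0, 0, 1), (0, -1, 0, 0, 1, 0),
  (0, -1, 0, 1, 0, 0), (0, -1, -1, 0, 1, 1), (0, -1, -1, 1, 0, 1), (0, -1, -1, 1, 1, 0), (0, -1, -1, 1, 1, 1),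
  (-1, 0, 0, 0, 0, 0), (-1, 2, 2, -1, -1, -1), (-1, 0, 1, 0, 0, 0), (-1, 2, 1, -1, -1, -1), (-1, 1, 0, 0, 0, 0),
  (-1, 1, 2, -1, -1, -1), (-1, 1, 1, 0, 0, -1), (-1, 1, 1, 0, -1, 0), (-1, 1, 1, 0, -1, -1), (-1, 1, 1, -1, 0, 0),
  (-1, 1, 1, -1, 0, -1), (-1, 1, 1, -1, -1, 0)]

/-- the quadratic form in coordinates -/
def qq (a b c d e f : ZMod 2) : ZMod 2 := a * d + a * e + a * f + b * c + d * e + d * f + e * f

/-- nonzero singular -/
def P (x : Fin 6 → ZMod 2) : Prop := x ≠ 0 ∧ qq (x 0) (x 1) (x 2) (x 3) (x 4) (x 5) = 0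

instance decP : DecidablePred P := fun x => by unfold P; infer_instance

theorem card_P : Nat.card {x // P x} = 27 := by
  rw [Nat.card_eq_fintype_card]
  decide +kernel

theorem tab_norm : (tab.all fun p => decide (dotL (cb p.1 p.2.1 p.2.2.1 p.2.2.2.1 p.2.2.2.2.1 p.2.2.2.2.2)
    (cb p.1 p.2.1 p.2.2.1 p.2.2.2.1 p.2.2.2.2.1 p.2.2.2.2.2) = 32)) = true := by decide +kernel

theorem q_check : ∀ a b c d e f : ZMod 2, dotL (cb a.val b.val c.val d.val e.val f.val)
    (cb a.val b.val c.val d.val e.val f.val) % 32 = 16 * ((qq a b c d e f).val : ℤ) := by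
  decide +kernel

/-- the six coefficients of `p` modulo 2 -/
def md (a b c d e f : ZMod 2) (p : ℤ × ℤ × ℤ × ℤ × ℤ × ℤ) : Bool :=
  decide ((p.1 : ZMod 2) = a) && decide ((p.2.1 : ZMod 2) = b) && decide ((p.2.2.1 : ZMod 2) = c) &&
    decide ((p.2.2.2.1 : ZMod 2) = d) && decide ((p.2.2.2.2.1 : ZMod 2) = e) && decide ((p.2.2.2.2.2 : ZMod 2) = f)

theorem tab_check : ∀ a b c d e f : ZMod 2, (decide (qq a b c d e f ≠ 0) || (decide (a = 0) && decide (b = 0) &&
    decide (c = 0) && decide (d = 0) && decide (e = 0) && decide (f = 0)) || tab.any (md a b c d e f)) = true := by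
  decide +kernel

theorem bf_smul_left (a : ZMod 2) (y w : L2) : bf (a • y) w = a * bf y w := by
  have : a = 0 ∨ a = 1 := by revert a; decide
  rcases this with rfl | rfl
  · rw [zero_smul, zero_mul, bf_zero_left]
  · rw [one_smul, one_mul]

theorem J_inj {i j : Fin 6} : J i = J j ↔ i = j := by
  rw [J, J, Fin.ext_iff, Fin.ext_iff, Fin.val_cast, Fin.val_cast]

theorem bf_cv (x : Fin 6 → ZMod 2) (i : Fin 6) :
    bf (cv (x 0) (x 1) (x 2) (x 3) (x 4) (x 5)) (ww v6 (J i)) = x i := by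
  simp only [cv, bf_add_left, bf_smul_left, bf_vw lat6 dual6, J_inj]
  fin_cases i <;> simp

theorem eq_cv {x : L2} (hx : c6 • x = x) : x = cv (bf x (ww v6 (J 0))) (bf x (ww v6 (J 1))) (bf x (ww v6 (J 2)))
    (bf x (ww v6 (J 3))) (bf x (ww v6 (J 4))) (bf x (ww v6 (J 5))) := by
  have h := eq_sum rep6 lat6 span6 hx
  have h2 : ∀ F : Fin v6.length → L2, ∑ j, F j = F (J 0) + (F (J 1) + (F (J 2) + (F (J 3) + (F (J 4) + F (J 5))))) := by
    intro F
    have e := Equiv.sum_comp (finCongr len6.symm) F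
    rw [← e, Fin.sum_univ_six]
    simp only [add_assoc]
    rfl
  rw [h2] at h
  exact h

theorem smul_cv (a b c d e f : ZMod 2) : c6 • cv a b c d e f = cv a b c d e f := by
  have h1 : ∀ (a : ZMod 2) (y : L2), c6 • (a • y) = a • (c6 • y) := by
    intro a y
    have : a = 0 ∨ a = 1 := by revert a; decide
    rcases this with rfl | rfl
    · rw [zero_smul, zero_smul, smul_zero]
    · rw [one_smul, one_smul]
  simp only [cv, smul_add, h1, smul_vv rep6 lat6 fix6]

theorem cast_val : ∀ a : ZMod 2, (((a.val : ℕ) : ℤ) : ZMod 2) = a := by decide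

theorem qf_cv (a b c d e f : ZMod 2) : qf (cv a b c d e f) = 0 ↔ qq a b c d e f = 0 := by
  have h1 : cv a b c d e f = cl (cu a.val b.val c.val d.val e.val f.val) := by
    rw [cl_cu]
    simp only [cast_val]
  rw [h1, qf_cl_eq_zero, norm_cu]
  rw [Int.dvd_iff_emod_eq_zero, q_check a b c d e f]
  generalize qq a b c d e f = q
  revert q
  decide

theorem two_cv {a b c d e f : ZMod 2} (h : qq a b c d e f = 0) (h0 : cv a b c d e f ≠ 0) :
    IsType 2 (cv a b c d e f) := by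
  have hc := tab_check a b c d e f
  rw [Bool.or_eq_true, Bool.or_eq_true, decide_eq_true_eq] at hc
  rcases hc with (hc | hc) | hc
  · exact absurd h hc
  · exfalso
    simp only [Bool.and_eq_true, decide_eq_true_eq] at hc
    obtain ⟨⟨⟨⟨⟨rfl, rfl⟩, rfl⟩, rfl⟩, rfl⟩, rfl⟩ := hc
    apply h0
    simp [cv]
  obtain ⟨p, hp, hm⟩ := List.any_eq_true.1 hc
  simp only [md, Bool.and_eq_true, decide_eq_true_eq] at hm
  obtain ⟨⟨⟨⟨⟨h1, h2⟩, h3⟩, h4⟩, h5⟩, h6⟩ := hm
  refine ⟨cu p.1 p.2.1 p.2.2.1 p.2.2.2.1 p.2.2.2.2.1 p.2.2.2.2.2, ?_, ?_⟩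
  · rw [norm_cu]
    have := List.all_eq_true.1 tab_norm p hp
    rw [of_decide_eq_true this]
    norm_num
  · rw [cl_cu, h1, h2, h3, h4, h5, h6]

/-- the nonzero singular fixed vectors of `s` -/
def Sg (s : Co1) := {v : L2 // s • v = v ∧ v ≠ 0 ∧ qf v = 0}

theorem mk_c6_smul (x : L2) : (QuotientGroup.mk c6 : Co1) • x = c6 • x := rfl

theorem card_c6 : Nat.card (Sg (QuotientGroup.mk c6)) = 27 := by
  rw [← card_P]
  refine Nat.card_congr
    { toFun := fun v => ⟨fun i => bf v.1 (ww v6 (J i)), ?_, ?_⟩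
      invFun := fun x => ⟨cv (x.1 0) (x.1 1) (x.1 2) (x.1 3) (x.1 4) (x.1 5), smul_cv _ _ _ _ _ _, ?_,
        (qf_cv _ _ _ _ _ _).2 x.2.2⟩
      left_inv := fun v => Subtype.ext (eq_cv v.2.1).symm
      right_inv := fun x => Subtype.ext (funext fun i => bf_cv x.1 i) }
  · intro h0
    apply v.2.2.1
    rw [eq_cv v.2.1]
    have h1 : ∀ i, bf v.1 (ww v6 (J i)) = 0 := fun i => congrFun h0 i
    simp [h1, cv]
  · rw [← qf_cv, ← eq_cv v.2.1]
    exact v.2.2.2
  · intro h0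
    apply x.2.1
    funext i
    rw [← bf_cv x.1 i, h0, bf_zero_left]
    rfl

theorem two_c6 {v : L2} (h : (QuotientGroup.mk c6 : Co1) • v = v) (h0 : v ≠ 0) (hq : qf v = 0) : IsType 2 v := by
  have h1 := eq_cv h
  rw [h1] at h0 hq ⊢
  exact two_cv ((qf_cv _ _ _ _ _ _).1 hq) h0

variable {s : Co1} (hs : orderOf s = 3) (hfr : fr s = 2 ^ 6)

include hs hfr

/-- **The number of singular vectors.** -/
theorem card_Sg : Nat.card (Sg s) = 27 := by
  obtain ⟨g, hg⟩ := conj_rep uniq6 hs hfr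
  rw [← card_c6, ← hg]
  refine Nat.card_congr
    { toFun := fun v => ⟨g • v.1, ?_, ?_, ?_⟩
      invFun := fun v => ⟨g⁻¹ • v.1, ?_, ?_, ?_⟩
      left_inv := fun v => Subtype.ext (inv_smul_smul g _)
      right_inv := fun v => Subtype.ext (smul_inv_smul g _) }
  · rw [mul_smul, mul_smul, inv_smul_smul, v.2.1]
  · intro h0
    apply v.2.2.1
    rwa [smul_eq_zero_iff_eq] at h0
  · rw [qf_smul1]
    exact v.2.2.2
  · have h1 := v.2.1
    rw [mul_smul, mul_smul] at h1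
    rw [eq_inv_smul_iff]
    exact h1
  · intro h0
    apply v.2.2.1
    rwa [smul_eq_zero_iff_eq] at h0
  · rw [qf_smul1]
    exact v.2.2.2

/-- **Singular fixed vectors have type two.** -/
theorem two_of {v : L2} (h : s • v = v) (h0 : v ≠ 0) (hq : qf v = 0) : IsType 2 v := by
  obtain ⟨g, hg⟩ := conj_rep uniq6 hs hfr
  have h1 : IsType 2 (g • v) := by
    refine two_c6 ?_ ?_ ?_
    · rw [← hg, mul_smul, mul_smul, inv_smul_smul, h]
    · rwa [Ne, smul_eq_zero_iff_eq]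
    · rw [qf_smul1, hq]
  have h2 := h1.smul1 g⁻¹
  rwa [inv_smul_smul] at h2

end Cfsg.Agent.H844.TwoB.Six
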